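import Mathlib

/-!
Pairs of permutations generating a non-solvable group with product outside the `p`-elements.
-/

set_option autoImplicit false
set_option linter.style.haveILetI false

namespace CfsgLib.AltFreePair

open Equiv Equiv.Perm
open scoped commutatorElement

variable {α : Type*}

/-- The product is no `p`-element and the pair generates a non-solvable group. -/
def Good {G : Type*} [Group G] (p : ℕ) (x y : G) : Prop :=
  (¬ ∃ k : ℕ, orderOf (x * y) = p ^ k) ∧ ¬ Group.IsSolvable ↥(Subgroup.closure ({x, y} : Set G))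

theorem Good.of_map {G H : Type*} [Group G] [Group H] {p : ℕ} (hp : p.Prime) (φ : G →* H) {x y : G}
    (h : Good p (φ x) (φ y)) : Good p x y := by
  refine ⟨fun ⟨k, hk⟩ => h.1 ?_, fun hs => h.2 ?_⟩
  · have hd : orderOf (φ x * φ y) ∣ p ^ k := by rw [← map_mul, ← hk]; exact orderOf_map_dvd φ _
    obtain ⟨j, -, hj⟩ := (Nat.dvd_prime_pow hp).1 hd
    exact ⟨j, hj⟩
  · have e : (Subgroup.closure ({x, y} : Set G)).map φ = Subgroup.closure ({φ x, φ y} : Set H) := by
      rw [MonoidHom.map_closure, Set.image_pair]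
    haveI := hs
    rw [← e]
    exact solvable_of_surjective (φ.subgroupMap_surjective (Subgroup.closure ({x, y} : Set G)))

theorem Good.symm {G : Type*} [Group G] {p : ℕ} {x y : G} (h : Good p x y) : Good p y x := by
  refine ⟨fun ⟨k, hk⟩ => h.1 ⟨k, ?_⟩, by rw [Set.pair_comm]; exact h.2⟩
  rw [← hk]
  refine (SemiconjBy.orderOf_eq (a := x) ?_).symm
  show x * (y * x) = x * y * x
  group

theorem Good.conj {G : Type*} [Group G] {p : ℕ} (hp : p.Prime) {x y : G} (h : Good p x y) (g : G) :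
    Good p (g * x * g⁻¹) (g * y * g⁻¹) := by
  refine Good.of_map hp (MulAut.conj g⁻¹).toMonoidHom ?_
  have e : ∀ z : G, (MulAut.conj g⁻¹).toMonoidHom (g * z * g⁻¹) = z := fun z => by
    simp [mul_assoc]
  rw [e, e]; exact h

/-- Transfer along an invariant injection. -/
theorem Good.of_embed {β : Type*} {p : ℕ} (hp : p.Prime) {f : β → α} (hf : Function.Injective f)
    {x y : Perm α} {x' y' : Perm β} (hx : ∀ b, x (f b) = f (x' b)) (hy : ∀ b, y (f b) = f (y' b))
    (h : Good p x' y') : Good p x y := by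
  let T : Subgroup (Perm α) :=
    { carrier := {σ | ∃ σ' : Perm β, ∀ b, σ (f b) = f (σ' b)}
      one_mem' := ⟨1, fun _ => rfl⟩
      mul_mem' := by
        rintro σ τ ⟨σ', hσ⟩ ⟨τ', hτ⟩
        exact ⟨σ' * τ', fun b => by rw [Perm.mul_apply, Perm.mul_apply, hτ, hσ]⟩
      inv_mem' := by
        rintro σ ⟨σ', hσ⟩
        refine ⟨σ'⁻¹, fun b => σ.injective ?_⟩
        rw [hσ]; simp }
  have huniq : ∀ (σ : T) (σ' : Perm β), (∀ b, (σ : Perm α) (f b) = f (σ' b)) → σ.2.choose = σ' :=
    fun σ σ' hs => Equiv.ext fun b => hf ((σ.2.choose_spec b).symm.trans (hs b))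
  let φ : T →* Perm β :=
    { toFun := fun σ => σ.2.choose
      map_one' := huniq 1 1 fun _ => rfl
      map_mul' := fun σ τ => huniq (σ * τ) _ fun b => by
        show (σ : Perm α) ((τ : Perm α) (f b)) = _
        rw [τ.2.choose_spec b, σ.2.choose_spec (τ.2.choose b), Perm.mul_apply] }
  have hT : Good p (⟨x, x', hx⟩ : T) ⟨y, y', hy⟩ := by
    refine Good.of_map hp φ ?_
    rw [show φ ⟨x, x', hx⟩ = x' from huniq _ _ hx, show φ ⟨y, y', hy⟩ = y' from huniq _ _ hy]
    exact h
  refine ⟨fun ⟨k, hk⟩ => hT.1 ⟨k, ?_⟩, fun hs => hT.2 ?_⟩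
  · rw [← hk, ← Subgroup.orderOf_coe]; rfl
  · have e : (Subgroup.closure ({⟨x, x', hx⟩, ⟨y, y', hy⟩} : Set T)).map T.subtype =
        Subgroup.closure ({x, y} : Set (Perm α)) := by rw [MonoidHom.map_closure, Set.image_pair]; rfl
    haveI := hs
    rw [← e] at hs
    exact solvable_of_solvable_injective
      (f := ((Subgroup.closure ({⟨x, x', hx⟩, ⟨y, y', hy⟩} : Set T)).equivMapOfInjective T.subtype
        T.subtype_injective).toMonoidHom) (MulEquiv.injective _)

/-- A solvable transitive group of odd degree has no cycle fixing exactly two points. -/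
theorem not_solvable_of_cycle {β : Type*} [Fintype β] [DecidableEq β] (K : Subgroup (Perm β))
    (htr : ∀ a b : β, ∃ k ∈ K, k a = b) (hodd : Odd (Fintype.card β)) (h5 : 5 ≤ Fintype.card β) {σ : Perm β}
    (hσK : σ ∈ K) (hσ : σ.IsCycle) (hσc : σ.support.card + 2 = Fintype.card β) : ¬ Group.IsSolvable K := by
  classical
  intro hs
  obtain ⟨n, hn⟩ := hs.solvable
  have hK : Nontrivial K := ⟨⟨⟨σ, hσK⟩, 1, fun e => hσ.ne_one (congrArg Subtype.val e)⟩⟩
  have hex : ∃ n, derivedSeries K n = ⊥ := ⟨n, hn⟩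
  have h0 : 0 < Nat.find hex := by
    rw [Nat.pos_iff_ne_zero]
    intro h
    have := Nat.find_spec hex
    rw [h, derivedSeries_zero] at this
    exact top_ne_bot this
  set D := derivedSeries K (Nat.find hex - 1) with hD
  have hDne : D ≠ ⊥ := Nat.find_min hex (Nat.sub_lt h0 one_pos)
  have hDab : ⁅D, D⁆ = ⊥ := by
    rw [← derivedSeries_succ, Nat.sub_add_cancel h0]; exact Nat.find_spec hex
  haveI hDn : D.Normal := derivedSeries_normal K _
  set N : Subgroup (Perm β) := D.map K.subtype with hN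
  have hcomm : ∀ a ∈ N, ∀ b ∈ N, a * b = b * a := by
    rintro _ ⟨a, ha, rfl⟩ _ ⟨b, hb, rfl⟩
    have h1 : ⁅a, b⁆ ∈ ⁅D, D⁆ := Subgroup.commutator_mem_commutator ha hb
    rw [hDab, Subgroup.mem_bot] at h1
    exact congrArg Subtype.val ((commutatorElement_eq_one_iff_mul_comm (g₁ := a) (g₂ := b)).1 h1)
  have hnorm : ∀ k ∈ K, ∀ a ∈ N, k * a * k⁻¹ ∈ N := by
    rintro k hk _ ⟨a, ha, rfl⟩
    exact ⟨⟨k, hk⟩ * a * ⟨k, hk⟩⁻¹, hDn.conj_mem a ha _, rfl⟩
  -- no point is fixed by `N`
  have hmove : ∀ b : β, ∃ a ∈ N, a b ≠ b := by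
    intro b
    by_contra hno
    push Not at hno
    refine hDne ((Subgroup.eq_bot_iff_forall _).2 fun a ha => Subtype.ext (Equiv.ext fun c => ?_))
    obtain ⟨k, hk, hkb⟩ := htr b c
    have hk' : k⁻¹ * (a : Perm β) * k ∈ N := by simpa using hnorm k⁻¹ (inv_mem hk) _ ⟨a, ha, rfl⟩
    have := congrArg k (hno _ hk')
    simpa [Perm.mul_apply, hkb] using this
  obtain ⟨a, b, hab, hfix⟩ : ∃ a b, a ≠ b ∧ σ.supportᶜ = {a, b} := by
    refine Finset.card_eq_two.1 ?_
    rw [Finset.card_compl]; omega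
  have hσfix : ∀ c, σ c = c ↔ c = a ∨ c = b := fun c => by
    rw [← notMem_support, ← Finset.mem_compl, hfix]; simp
  have hσa : σ a = a := (hσfix a).2 (Or.inl rfl)
  -- the orbit of `a`
  let O : β → Set β := fun c => {d | ∃ g ∈ N, g c = d}
  have hOself : ∀ c, c ∈ O c := fun c => ⟨1, one_mem _, rfl⟩
  have hOtrans : ∀ c d e, d ∈ O c → e ∈ O d → e ∈ O c := by
    rintro c d e ⟨g, hg, rfl⟩ ⟨g', hg', rfl⟩
    exact ⟨g' * g, mul_mem hg' hg, rfl⟩
  have hOsymm : ∀ c d, d ∈ O c → c ∈ O d := by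
    rintro c d ⟨g, hg, rfl⟩; exact ⟨g⁻¹, inv_mem hg, by simp⟩
  have hinvσ : ∀ d ∈ O a, ∀ i : ℕ, (σ ^ i) d ∈ O a := by
    rintro d ⟨g, hg, rfl⟩ i
    refine ⟨σ ^ i * g * (σ ^ i)⁻¹, hnorm _ (pow_mem hσK i) g hg, ?_⟩
    have : (σ ^ i)⁻¹ a = a := Equiv.Perm.inv_eq_iff_eq.2 (pow_apply_eq_self_of_apply_eq_self hσa i).symm
    rw [Perm.mul_apply, Perm.mul_apply, this]
  have htrN : ∀ c, c ∈ O a := by
    by_cases hmv : ∃ d ∈ O a, σ d ≠ d
    · obtain ⟨d, hd, hdm⟩ := hmv
      have hsup : ∀ c, σ c ≠ c → c ∈ O a := fun c hc => by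
        obtain ⟨i, hi⟩ := hσ.exists_pow_eq hdm hc
        exact hi ▸ hinvσ d hd i
      intro c
      by_cases hc : σ c = c
      · rcases (hσfix c).1 hc with rfl | rfl
        · exact hOself _
        · by_contra hb
          obtain ⟨g, hg, hgb⟩ := hmove c
          have h1 : g c ∈ O c := ⟨g, hg, rfl⟩
          have h2 : g c ∈ O a := by
            by_cases h3 : σ (g c) = g c
            · rcases (hσfix _).1 h3 with h4 | h4
              · rw [h4]; exact hOself _
              · exact absurd h4 hgb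
            · exact hsup _ h3
          exact hb (hOtrans _ _ _ h2 (hOsymm _ _ h1))
      · exact hsup c hc
    · -- all orbits would have two points
      push Not at hmv
      exfalso
      have hOa : O a = {a, b} := by
        ext d
        refine ⟨fun hd => (hσfix d).1 (hmv d hd), ?_⟩
        rintro (rfl | rfl)
        · exact hOself _
        · obtain ⟨g, hg, hga⟩ := hmove a
          have : g a ∈ O a := ⟨g, hg, rfl⟩
          rwa [((hσfix _).1 (hmv _ this)).resolve_left hga] at this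
      letI : MulAction N β := MulAction.compHom β N.subtype
      have hcard : ∀ c : β, Nat.card (MulAction.orbit N c) = 2 := by
        intro c
        obtain ⟨k, hk, hkc⟩ := htr a c
        have e : MulAction.orbit N c = k '' (O a) := by
          ext d
          constructor
          · rintro ⟨⟨g, hg⟩, rfl⟩
            refine ⟨(k⁻¹ * g * k) a, ⟨_, by simpa using hnorm k⁻¹ (inv_mem hk) g hg, rfl⟩, ?_⟩
            show _ = g c
            simp [hkc]
          · rintro ⟨_, ⟨g, hg, rfl⟩, rfl⟩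
            refine ⟨⟨k * g * k⁻¹, hnorm k hk g hg⟩, ?_⟩
            show (k * g * k⁻¹) c = _
            rw [← hkc]; simp
        rw [e, hOa, Nat.card_coe_set_eq, Set.ncard_image_of_injective _ k.injective, Set.ncard_pair hab]
      have h2 : 2 ∣ Nat.card β := by
        rw [Nat.card_congr (MulAction.selfEquivSigmaOrbits N β), Nat.card_sigma]
        exact Finset.dvd_sum fun c _ => by rw [hcard]
      rw [Nat.card_eq_fintype_card] at h2
      exact Nat.not_even_iff_odd.2 hodd (even_iff_two_dvd.2 h2)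
  -- `N` is regular
  have hreg : ∀ g ∈ N, ∀ g' ∈ N, g a = g' a → g = g' := by
    intro g hg g' hg' e
    refine Equiv.ext fun c => ?_
    obtain ⟨m, hm, rfl⟩ := htrN c
    have h1 := congrArg (fun f : Perm β => f a) (hcomm g hg m hm)
    have h2 := congrArg (fun f : Perm β => f a) (hcomm g' hg' m hm)
    simp only [Perm.mul_apply] at h1 h2
    rw [h1, h2, e]
  have hcardN : Nat.card N = Fintype.card β := by
    rw [← Nat.card_eq_fintype_card]
    refine Nat.card_congr (Equiv.ofBijective (fun g : N => (g : Perm β) a)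
      ⟨fun g g' e => Subtype.ext (hreg _ g.2 _ g'.2 e), fun c => ?_⟩)
    obtain ⟨m, hm, e⟩ := htrN c
    exact ⟨⟨m, hm⟩, e⟩
  set C : Subgroup (Perm β) := N ⊓ Subgroup.centralizer ({σ} : Set (Perm β)) with hC
  have hmemC : ∀ g ∈ N, (g a = a ∨ g a = b) ↔ g ∈ C := by
    intro g hg
    rw [← hσfix]
    refine ⟨fun h => ⟨hg, Subgroup.mem_centralizer_singleton_iff.2 ?_⟩, fun h => ?_⟩
    · have hσ' : σ⁻¹ a = a := Equiv.Perm.inv_eq_iff_eq.2 hσa.symm
      have h1 : σ * g * σ⁻¹ = g := hreg _ (hnorm σ hσK g hg) g hg (by simp only [Perm.mul_apply, hσ', h])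
      calc g * σ = σ * g * σ⁻¹ * σ := by rw [h1]
        _ = σ * g := by group
    · have := congrArg (fun f : Perm β => f a) (Subgroup.mem_centralizer_singleton_iff.1 h.2)
      simp only [Perm.mul_apply, hσa] at this
      exact this.symm
  have hC2 : Nat.card C = 2 := by
    have e : Nat.card C = Nat.card ({a, b} : Set β) := by
      refine Nat.card_congr (Equiv.ofBijective
        (fun g : C => (⟨(g : Perm β) a, (hmemC _ g.2.1).2 g.2⟩ : ({a, b} : Set β)))
        ⟨fun g g' e => Subtype.ext (hreg _ g.2.1 _ g'.2.1 (congrArg Subtype.val e)), fun c => ?_⟩)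
      obtain ⟨m, hm, hmc⟩ := htrN c.1
      refine ⟨⟨m, (hmemC m hm).1 ?_⟩, Subtype.ext hmc⟩
      rw [hmc]
      exact c.2
    rw [e, Nat.card_coe_set_eq, Set.ncard_pair hab]
  have := Subgroup.card_dvd_of_le (inf_le_left : C ≤ N)
  rw [hC2, hcardN] at this
  exact Nat.not_even_iff_odd.2 hodd (even_iff_two_dvd.2 this)

end CfsgLib.AltFreePair
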