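import Cfsg.Agent.AltFreePair.CycleProd
import Cfsg.Agent.AltFreePair.Good

/-!
A cycle of prime power length at least five and an element of the same symmetric group.
-/

set_option autoImplicit false
set_option linter.style.haveILetI false

namespace CfsgLib.AltFreePair

open Equiv Equiv.Perm

variable {β : Type*} [Fintype β] [DecidableEq β] {p i : ℕ}

theorem transitive_of_cycle (K : Subgroup (Perm β)) {u : Perm β} (hu : u.IsCycle) (hs : u.support = Finset.univ)
    (huK : u ∈ K) (a b : β) : ∃ k ∈ K, k a = b := by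
  have h : ∀ c, u c ≠ c := fun c => mem_support.1 (hs ▸ Finset.mem_univ c)
  obtain ⟨j, hj⟩ := hu.exists_pow_eq (h a) (h b)
  exact ⟨_, pow_mem huK j, hj⟩

/-- A non-`p`-number of elements moved by a cycle. -/
theorem coprime_sub {L : ℕ} (hp : p.Prime) (hp3 : 3 ≤ p) (hi : i ≠ 0) (hL : L + 1 = p ^ i ∨ L + 2 = p ^ i) :
    L.Coprime p := by
  refine ((Nat.Prime.coprime_iff_not_dvd hp).2 fun h => ?_).symm
  have h1 : p ∣ p ^ i := dvd_pow_self p hi
  rcases hL with e | e <;>
  · rw [← e] at h1
    have h2 := Nat.le_of_dvd (by norm_num) ((Nat.dvd_add_right h).1 h1)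
    omega

theorem not_ppow {G : Type*} [Monoid G] {x : G} (hp : p.Prime) {L : ℕ} (hx : orderOf x ∣ L) (hcop : L.Coprime p)
    (hx1 : x ≠ 1) : ¬ ∃ k, orderOf x = p ^ k := by
  rintro ⟨k, hk⟩
  exact hx1 (orderOf_eq_one_iff.1 (Nat.eq_one_of_dvd_coprimes (hcop.pow_right k) hx hk.dvd))

/-- Both parities for two cycles of full length. -/
theorem good_single (hp : p.Prime) (hp3 : 3 ≤ p) (hi : i ≠ 0) (hcard : Fintype.card β = p ^ i)
    (h5 : 5 ≤ Fintype.card β) {u : Perm β} (hu : u.IsCycle) (hs : u.support = Finset.univ) (ε : ℤˣ) :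
    ∃ s : Perm β, Perm.sign s = ε ∧ Good p u (s * u * s⁻¹) := by
  classical
  have hmv : ∀ c, u c ≠ c := fun c => mem_support.1 (hs ▸ Finset.mem_univ c)
  haveI : Nonempty β := Fintype.card_pos_iff.1 (by omega)
  obtain ⟨x⟩ := (inferInstance : Nonempty β)
  have hord : orderOf u = Fintype.card β := by rw [hu.orderOf, hs, Finset.card_univ]
  have hne : ∀ j k : ℕ, j < k → k < Fintype.card β → (u ^ j) x ≠ (u ^ k) x := by
    intro j k hjk hk e
    have h1 : (u ^ (k - j)) ((u ^ j) x) = (u ^ j) x := by
      rw [← Perm.mul_apply, ← pow_add, Nat.sub_add_cancel hjk.le]; exact e.symm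
    have h2 : u ^ (k - j) = 1 := (hu.pow_eq_one_iff' (hmv _)).2 h1
    have h3 := Nat.le_of_dvd (by omega) (orderOf_dvd_of_pow_eq_one h2)
    omega
  have hodd : Odd (Fintype.card β) := hcard ▸ (hp.odd_of_ne_two (by omega)).pow
  have key : ∀ (s : Perm β) (L : ℕ), s * s = 1 → L + 1 = p ^ i ∨ L + 2 = p ^ i → (s * u).IsCycle →
      (s * u).support.card = L → 3 ≤ L → ¬ Group.IsSolvable ↥(Subgroup.closure ({u, s} : Set (Perm β))) →
      Good p u (s * u * s⁻¹) := by
    intro s L hs2 hL hcy hsupp hL3 hns
    have hsi : s⁻¹ = s := inv_eq_of_mul_eq_one_right hs2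
    have e : u * (s * u * s⁻¹) = (s⁻¹ * (s * u) * s) * (s⁻¹ * (s * u) * s) := by
      rw [hsi]; simp only [← mul_assoc, hs2, one_mul]
    have hconj : u * (s * u * s⁻¹) = s⁻¹ * (s * u) ^ 2 * s := by
      rw [e, pow_two]; group
    refine ⟨?_, fun hsolv => hns ?_⟩
    · rw [hconj]
      refine not_ppow hp (L := L) ?_ (coprime_sub hp hp3 hi hL) fun h1 => ?_
      · refine orderOf_dvd_of_pow_eq_one ?_
        have := conj_pow (a := s⁻¹) (b := (s * u) ^ 2) (i := L)
        rw [inv_inv] at this
        rw [this, ← pow_mul, mul_comm, pow_mul, ← hsupp, ← hcy.orderOf, pow_orderOf_eq_one, one_pow, mul_one,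
          inv_mul_cancel]
      · have h2 : (s * u) ^ 2 = 1 := by
          calc (s * u) ^ 2 = s * (s⁻¹ * (s * u) ^ 2 * s) * s⁻¹ := by group
            _ = 1 := by rw [h1]; group
        have := Nat.le_of_dvd (by norm_num) (orderOf_dvd_of_pow_eq_one h2)
        rw [hcy.orderOf, hsupp] at this
        omega
    · set H := Subgroup.closure ({u, s * u * s⁻¹} : Set (Perm β)) with hH
      set K := Subgroup.closure ({u, s} : Set (Perm β)) with hK
      have huK : u ∈ K := Subgroup.subset_closure (Or.inl rfl)
      have hsK : s ∈ K := Subgroup.subset_closure (Or.inr rfl)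
      have hHK : H ≤ K := (Subgroup.closure_le _).2 (by
        rintro z (rfl | rfl)
        exacts [huK, mul_mem (mul_mem hsK huK) (inv_mem hsK)])
      have hn : K ≤ Subgroup.normalizer (H : Set (Perm β)) := by
        refine (Subgroup.closure_le _).2 ?_
        rintro z (rfl | rfl)
        · exact Subgroup.le_normalizer (Subgroup.subset_closure (Or.inl rfl))
        · have hle : H ≤ H.comap (MulAut.conj z).toMonoidHom := by
            refine (Subgroup.closure_le _).2 ?_
            rintro w (rfl | rfl)
            · exact Subgroup.subset_closure (Or.inr rfl)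
            · show MulAut.conj z (z * u * z⁻¹) ∈ H
              rw [MulAut.conj_apply, hsi, show z * (z * u * z) * z = z * z * u * (z * z) by group, hs2, one_mul,
                mul_one]
              exact Subgroup.subset_closure (Or.inl rfl)
          refine Subgroup.mem_normalizer_iff.2 fun w => ⟨fun hw => hle hw, fun hw => ?_⟩
          have h' : z * (z * w * z⁻¹) * z⁻¹ ∈ H := hle hw
          rw [hsi, show z * (z * w * z) * z = z * z * w * (z * z) by group, hs2, one_mul, mul_one] at h'
          exact h'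
      haveI : (H.subgroupOf K).Normal := Subgroup.normal_subgroupOf_of_le_normalizer hn
      haveI := hsolv
      have hq : Function.Surjective ((QuotientGroup.mk' (H.subgroupOf K)).comp
          (Subgroup.inclusion (Subgroup.zpowers_le.2 hsK : Subgroup.zpowers s ≤ K))) := by
        rw [← MonoidHom.range_eq_top, eq_top_iff]
        rintro z -
        obtain ⟨⟨w, hw⟩, rfl⟩ := QuotientGroup.mk'_surjective (H.subgroupOf K) z
        revert hw
        intro hw
        induction hw using Subgroup.closure_induction with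
        | mem a ha =>
          rcases (id ha : a = u ∨ a = s) with ha' | ha'
          · rw [show QuotientGroup.mk' (H.subgroupOf K) ⟨a, Subgroup.subset_closure ha⟩ = 1 from
              (QuotientGroup.eq_one_iff _).2 (by
                show a ∈ H
                exact Subgroup.subset_closure (Or.inl ha'))]
            exact one_mem _
          · exact ⟨⟨s, Subgroup.mem_zpowers s⟩, congrArg (QuotientGroup.mk' (H.subgroupOf K)) (Subtype.ext (ha' : a = s).symm)⟩
        | one => exact (map_one (QuotientGroup.mk' (H.subgroupOf K))).symm ▸ one_mem _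
        | mul a b ha hb iha ihb =>
          exact (map_mul (QuotientGroup.mk' (H.subgroupOf K)) ⟨a, ha⟩ ⟨b, hb⟩).symm ▸ mul_mem iha ihb
        | inv a ha iha =>
          exact (map_inv (QuotientGroup.mk' (H.subgroupOf K)) ⟨a, ha⟩).symm ▸ inv_mem iha
      haveI : Group.IsSolvable (Subgroup.zpowers s) := isSolvable_of_comm fun a b => mul_comm' a b
      haveI : Group.IsSolvable (↥K ⧸ H.subgroupOf K) := solvable_of_surjective hq
      haveI : Group.IsSolvable ↥(H.subgroupOf K) :=
        solvable_of_solvable_injective (f := (Subgroup.subgroupOfEquivOfLe hHK).toMonoidHom) (MulEquiv.injective _)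
      exact solvable_of_ker_le_range (H.subgroupOf K).subtype (QuotientGroup.mk' (H.subgroupOf K))
        (le_of_eq (by rw [QuotientGroup.ker_mk', Subgroup.range_subtype]))
  have hx1 : u (u x) ≠ x := by
    have := hne 0 2 (by norm_num) (by omega)
    simpa [pow_two, Perm.mul_apply] using this.symm
  set s₁ := Equiv.swap x (u x) with hs₁
  have hc1 : (s₁ * u).IsCycle := hu.swap_mul (hmv x) hx1
  have hsupp1 : (s₁ * u).support = Finset.univ \ {x} := by rw [support_swap_mul_eq u x hx1, hs]
  have hcard1 : (s₁ * u).support.card + 1 = Fintype.card β := by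
    rw [hsupp1, Finset.card_sdiff_of_subset (Finset.subset_univ _), Finset.card_singleton, Finset.card_univ]
    omega
  rcases Int.units_eq_one_or ε with rfl | rfl
  · set y := (u ^ 2) x with hy
    have huy : u y = (u ^ 3) x := by rw [hy, pow_succ' u 2, Perm.mul_apply]
    have huuy : u ((u ^ 3) x) = (u ^ 4) x := by rw [pow_succ' u 3, Perm.mul_apply]
    have e1 : u x = (u ^ 1) x := by rw [pow_one]
    have e0 : x = (u ^ 0) x := rfl
    have hf1 : (s₁ * u) y = (u ^ 3) x := by
      rw [Perm.mul_apply, huy, hs₁, Equiv.swap_apply_of_ne_of_ne]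
      · exact fun e => hne 0 3 (by norm_num) (by omega) (e0 ▸ e.symm)
      · exact fun e => hne 1 3 (by norm_num) (by omega) (e1 ▸ e.symm)
    have hf2 : (s₁ * u) ((u ^ 3) x) = (u ^ 4) x := by
      rw [Perm.mul_apply, huuy, hs₁, Equiv.swap_apply_of_ne_of_ne]
      · exact fun e => hne 0 4 (by norm_num) (by omega) (e0 ▸ e.symm)
      · exact fun e => hne 1 4 (by norm_num) (by omega) (e1 ▸ e.symm)
    have hyne : (s₁ * u) y ≠ y := by rw [hf1]; exact fun e => hne 2 3 (by norm_num) (by omega) e.symm
    have hyy : (s₁ * u) ((s₁ * u) y) ≠ y := by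
      rw [hf1, hf2]; exact fun e => hne 2 4 (by norm_num) (by omega) e.symm
    set s₂ := Equiv.swap y ((s₁ * u) y) with hs₂
    have hd : Commute s₂ s₁ := by
      refine (Equiv.Perm.Disjoint.commute ?_)
      intro c
      by_cases hcy : c = y ∨ c = (s₁ * u) y
      · right
        rw [hs₁]
        refine Equiv.swap_apply_of_ne_of_ne ?_ ?_ <;> rcases hcy with rfl | rfl
        · exact fun e => hne 0 2 (by norm_num) (by omega) (e0 ▸ e.symm)
        · rw [hf1]; exact fun e => hne 0 3 (by norm_num) (by omega) (e0 ▸ e.symm)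
        · exact fun e => hne 1 2 (by norm_num) (by omega) (e1 ▸ e.symm)
        · rw [hf1]; exact fun e => hne 1 3 (by norm_num) (by omega) (e1 ▸ e.symm)
      · left
        push Not at hcy
        exact Equiv.swap_apply_of_ne_of_ne hcy.1 hcy.2
    have hc2 : (s₂ * s₁ * u).IsCycle := by rw [mul_assoc]; exact hc1.swap_mul hyne hyy
    have hcard2 : (s₂ * s₁ * u).support.card + 2 = Fintype.card β := by
      rw [mul_assoc, support_swap_mul_eq _ y hyy, Finset.card_sdiff_of_subset
        (Finset.singleton_subset_iff.2 (mem_support.2 hyne)), Finset.card_singleton]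
      omega
    refine ⟨s₂ * s₁, ?_, key (s₂ * s₁) (Fintype.card β - 2) ?_ (Or.inr (by omega)) hc2 (by omega) (by omega) ?_⟩
    · rw [map_mul, hs₂, hs₁, Perm.sign_swap hyne.symm, Perm.sign_swap (hmv x).symm]; rfl
    · rw [mul_assoc, ← mul_assoc s₁, ← hd.eq, mul_assoc s₂ s₁, hs₁, Equiv.swap_mul_self, mul_one, hs₂,
        Equiv.swap_mul_self]
    · exact not_solvable_of_cycle _ (transitive_of_cycle _ hu hs (Subgroup.subset_closure (Or.inl rfl))) hodd h5
        (mul_mem (Subgroup.subset_closure (Or.inr rfl)) (Subgroup.subset_closure (Or.inl rfl))) hc2 hcard2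
  · refine ⟨s₁, Perm.sign_swap (hmv x).symm, key s₁ (Fintype.card β - 1) (Equiv.swap_mul_self _ _)
      (Or.inl (by omega)) hc1 (by omega) (by omega) ?_⟩
    rw [hs₁, closure_cycle_adjacent_swap hu hs x]
    intro h
    haveI := h
    exact Equiv.Perm.not_solvable β (by
      rw [Cardinal.mk_fintype]; exact_mod_cast h5)
      (solvable_of_solvable_injective (f := (Subgroup.topEquiv (G := Perm β)).symm.toMonoidHom)
        (MulEquiv.injective _))

/-- A full cycle and any non-trivial `p`-element. -/
theorem good_general (hp : p.Prime) (hp3 : 3 ≤ p) (hi : i ≠ 0) (hcard : Fintype.card β = p ^ i)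
    (h5 : 5 ≤ Fintype.card β) {u w : Perm β} (hu : u.IsCycle) (hs : u.support = Finset.univ) (hw : w ≠ 1)
    (hwo : Odd (orderOf w)) : ∃ h : Perm β, Good p u (h * w * h⁻¹) := by
  classical
  have hodd : Odd (Fintype.card β) := hcard ▸ (hp.odd_of_ne_two (by omega)).pow
  obtain ⟨l, m, hl, hm, hlen, hmA, he⟩ := exists_near_full Finset.univ w⁻¹ (by rwa [orderOf_inv])
    (inv_ne_one.2 hw) (Finset.subset_univ _) (by rwa [Finset.card_univ])
  rw [Finset.card_univ] at hlen
  have hmlen : m.length = Fintype.card β := by rw [← List.toFinset_card_of_nodup hm, hmA, Finset.card_univ]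
  have hmne : ∀ z, m ≠ [z] := fun z e => by rw [e] at hmlen; simp at hmlen; omega
  have hlne : ∀ z, l ≠ [z] := fun z e => by rw [e] at hlen; simp at hlen; omega
  have hmc : m.formPerm.IsCycle := List.isCycle_formPerm hm (by omega)
  have hms : m.formPerm.support = Finset.univ := by rw [List.support_formPerm_of_nodup _ hm hmne, hmA]
  have hlc : l.formPerm.IsCycle := List.isCycle_formPerm hl (by omega)
  have hls : l.formPerm.support.card + 2 = Fintype.card β := by
    rw [List.support_formPerm_of_nodup _ hl hlne, List.toFinset_card_of_nodup hl]; omega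
  obtain ⟨h, hh⟩ := isConj_iff.1 (hmc.isConj hu (by rw [hms, hs]))
  refine ⟨h, Good.symm ?_⟩
  rw [← hh]
  refine Good.conj hp ?_ h
  have hσ : l.formPerm = w * m.formPerm := by rw [← he, mul_inv_cancel_left]
  refine ⟨?_, ?_⟩
  · rw [← hσ]
    refine not_ppow hp (L := l.formPerm.support.card) hlc.orderOf.dvd
      (coprime_sub hp hp3 hi (Or.inr (by omega))) hlc.ne_one
  · exact not_solvable_of_cycle _ (transitive_of_cycle _ hmc hms (Subgroup.subset_closure (Or.inr rfl))) hodd h5
      (mul_mem (Subgroup.subset_closure (Or.inl rfl)) (Subgroup.subset_closure (Or.inr rfl))) (hσ ▸ hlc) (hσ ▸ hls)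

end CfsgLib.AltFreePair
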