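import Mathlib

/-!
Products of a permutation of odd order with long cycles.
-/

set_option autoImplicit false
set_option linter.style.haveILetI false

namespace CfsgLib.AltFreePair

open Equiv Equiv.Perm

variable {α : Type*} [DecidableEq α]

/-- The three-cycle sending `x` to `y` to `z`. -/
def tri (x y z : α) : Perm α := Equiv.swap x y * Equiv.swap y z

theorem tri_rot {x y z : α} (hxy : x ≠ y) (hxz : x ≠ z) (hyz : y ≠ z) : tri x y z = tri y z x := by
  ext a
  simp only [tri, Perm.mul_apply]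
  rcases eq_or_ne a x with rfl | hax
  · simp [Equiv.swap_apply_def, hxy, hxz, hyz, hxy.symm, hxz.symm, hyz.symm]
  rcases eq_or_ne a y with rfl | hay
  · simp [Equiv.swap_apply_def, hxy, hxz, hyz, hxy.symm, hxz.symm, hyz.symm]
  rcases eq_or_ne a z with rfl | haz
  · simp [Equiv.swap_apply_def, hxy, hxz, hyz, hxy.symm, hxz.symm, hyz.symm]
  · simp [Equiv.swap_apply_def, hax, hay, haz]

theorem tri_mul_self {x y z : α} (hxy : x ≠ y) (hxz : x ≠ z) (hyz : y ≠ z) :
    tri x y z * tri x y z = tri y x z := by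
  ext a
  simp only [tri, Perm.mul_apply]
  rcases eq_or_ne a x with rfl | hax
  · simp [Equiv.swap_apply_def, hxy, hxz, hyz, hxy.symm, hxz.symm, hyz.symm]
  rcases eq_or_ne a y with rfl | hay
  · simp [Equiv.swap_apply_def, hxy, hxz, hyz, hxy.symm, hxz.symm, hyz.symm]
  rcases eq_or_ne a z with rfl | haz
  · simp [Equiv.swap_apply_def, hxy, hxz, hyz, hxy.symm, hxz.symm, hyz.symm]
  · simp [Equiv.swap_apply_def, hax, hay, haz]

theorem mul_tri (f : Perm α) (x y z : α) : f * tri x y z = tri (f x) (f y) (f z) * f := by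
  simp only [tri]
  rw [Equiv.swap_apply_apply, Equiv.swap_apply_apply]
  group

theorem tri_mul_formPerm (x y z : α) (l : List α) :
    tri x y z * (z :: l).formPerm = (x :: y :: z :: l).formPerm := by
  rw [List.formPerm_cons_cons, List.formPerm_cons_cons, tri, mul_assoc]

theorem exists_rotate_head {l : List α} (hl : l.Nodup) {p : α} (hp : p ∈ l) :
    ∃ t : List α, (p :: t).Nodup ∧ (p :: t).toFinset = l.toFinset ∧ (p :: t).formPerm = l.formPerm := by
  obtain ⟨s, t, rfl⟩ := List.append_of_mem hp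
  have hr : (s ++ p :: t).IsRotated ((p :: t) ++ s) := List.isRotated_append
  refine ⟨t ++ s, ?_, ?_, ?_⟩
  · exact hr.nodup_iff.1 hl
  · ext a; simp; tauto
  · exact (List.formPerm_eq_of_isRotated hl hr).symm

variable [Fintype α]

/-- Split a three-cycle off a non-trivial permutation of odd order. -/
theorem exists_split {w : Perm α} (hw : Odd (orderOf w)) (hw1 : w ≠ 1) :
    ∃ (x y z : α) (v : Perm α), x ≠ y ∧ x ≠ z ∧ y ≠ z ∧ w = tri x y z * v ∧ v x = x ∧ v y = y ∧
      v.support ⊂ w.support ∧ x ∈ w.support ∧ y ∈ w.support ∧ z ∈ w.support ∧ Odd (orderOf v) := by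
  obtain ⟨x₀, hx₀⟩ : ∃ x, x ∈ w.support := Finset.nonempty_iff_ne_empty.2 (fun h => hw1 (support_eq_empty_iff.1 h))
  set c := w.cycleOf x₀ with hc
  set w₀ := c⁻¹ * w with hw₀
  have hcy : c.IsCycle := isCycle_cycleOf w (mem_support.1 hx₀)
  have hcf : c ∈ w.cycleFactorsFinset := cycleOf_mem_cycleFactorsFinset_iff.2 hx₀
  set l := w.toList x₀ with hl
  have hlc : l.formPerm = c := formPerm_toList w x₀
  have hln : l.Nodup := nodup_toList w x₀
  have hll : l.length = c.support.card := length_toList w x₀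
  have hdc : orderOf c ∣ orderOf w := by
    rw [← lcm_cycleType w, hcy.orderOf]
    exact Multiset.dvd_lcm (Multiset.mem_map.2 ⟨c, hcf, rfl⟩)
  have hlodd : Odd l.length := by
    rw [hll, ← hcy.orderOf]
    exact Odd.of_dvd_nat hw hdc
  have hl2 : 2 ≤ l.length := hll ▸ hcy.two_le_card_support
  have hcsub : c.support ⊆ w.support := support_cycleOf_le w x₀
  obtain ⟨x, y, z, t, hlt⟩ : ∃ x y z t, l = x :: y :: z :: t := by
    match l, hl2, hlodd with
    | [_, _], _, ho => exact absurd ho (by simp)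
    | x :: y :: z :: t, _, _ => exact ⟨x, y, z, t, rfl⟩
  rw [hlt] at hln hlodd hlc hll
  have hnd := hln
  simp only [List.nodup_cons, List.mem_cons, not_or] at hnd
  obtain ⟨⟨hxy, hxz, hxt⟩, ⟨hyz, hyt⟩, hzt, htn⟩ := hnd
  have hsuppc : ∀ a, a ∈ (x :: y :: z :: t) → a ∈ c.support := fun a ha => by
    rw [← hlc, List.support_formPerm_of_nodup _ hln (by simp), List.mem_toFinset]
    exact ha
  have hcomm : ∀ a ∈ c.support, w₀ a = a := fun a ha => by
    rw [hw₀, Perm.mul_apply]
    have : w a = c a := ((mem_cycleFactorsFinset_iff.1 hcf).2 a ha).symm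
    rw [this]; simp
  have hw₀s : w₀.support ⊆ w.support := fun a ha => by
    rw [mem_support] at ha ⊢
    intro e
    refine ha ?_
    by_cases hac : a ∈ c.support
    · exact hcomm a hac
    · rw [hw₀, Perm.mul_apply, e]
      exact Equiv.Perm.inv_eq_iff_eq.2 (notMem_support.1 hac).symm
  set c' := (z :: t).formPerm with hc'
  have hc's : ∀ a, c' a ≠ a → a ∈ z :: t := fun a ha => List.mem_of_formPerm_apply_ne ha
  have hd : Perm.Disjoint c' w₀ := fun a => by
    by_cases ha : a ∈ c.support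
    · exact Or.inr (hcomm a ha)
    · left
      by_contra h
      exact ha (hsuppc a (by have := hc's a h; simp [this]))
  have hce : c = tri x y z * c' := by rw [hc', tri_mul_formPerm, hlc]
  refine ⟨x, y, z, c' * w₀, hxy, hxz, hyz, ?_, ?_, ?_, ?_, hcsub (hsuppc x (by simp)), hcsub (hsuppc y (by simp)),
    hcsub (hsuppc z (by simp)), ?_⟩
  · rw [← mul_assoc, ← hce, hw₀, mul_inv_cancel_left]
  · rw [Perm.mul_apply, hcomm x (hsuppc x (by simp))]
    exact List.formPerm_apply_of_notMem (by simp [hxz, hxt])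
  · rw [Perm.mul_apply, hcomm y (hsuppc y (by simp))]
    exact List.formPerm_apply_of_notMem (by simp [hyz, hyt])
  · refine (Finset.ssubset_iff_of_subset ?_).2 ⟨x, hcsub (hsuppc x (by simp)), ?_⟩
    · intro a ha
      rcases Finset.mem_union.1 (support_mul_le _ _ ha) with h | h
      · exact hcsub (hsuppc a (by have := hc's a (mem_support.1 h); simp [this]))
      · exact hw₀s h
    · rw [notMem_support, Perm.mul_apply, hcomm x (hsuppc x (by simp))]
      exact List.formPerm_apply_of_notMem (by simp [hxz, hxt])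
  · have ht' : Odd (z :: t).length := by
      simp only [List.length_cons] at hlodd ⊢
      rcases hlodd with ⟨k, hk⟩
      exact ⟨k - 1, by omega⟩
    have ho1 : orderOf c' ∣ (z :: t).length :=
      orderOf_dvd_of_pow_eq_one (List.formPerm_pow_length_eq_one_of_nodup (z :: t) (List.nodup_cons.2 ⟨hzt, htn⟩))
    have hdw : Perm.Disjoint c w₀ := fun a => by
      by_cases ha : a ∈ c.support
      · exact Or.inr (hcomm a ha)
      · exact Or.inl (notMem_support.1 ha)
    have ho2 : orderOf w₀ ∣ orderOf w := by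
      have : w = c * w₀ := by rw [hw₀, mul_inv_cancel_left]
      rw [this, hdw.orderOf]
      exact Nat.dvd_lcm_right _ _
    rw [hd.orderOf]
    exact Odd.of_dvd_nat ((Odd.of_dvd_nat ht' ho1).mul (Odd.of_dvd_nat hw ho2)) (Nat.lcm_dvd_mul _ _)

/-- Every permutation of odd order carries some full cycle on an odd set to a full cycle. -/
theorem exists_full (A : Finset α) : ∀ (w : Perm α), Odd (orderOf w) → w.support ⊆ A → Odd A.card →
    ∃ l m : List α, l.Nodup ∧ m.Nodup ∧ l.toFinset = A ∧ m.toFinset = A ∧ w * l.formPerm = m.formPerm := by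
  induction A using Finset.strongInduction with
  | _ A IH =>
  intro w hw hs hA
  by_cases hw1 : w = 1
  · exact ⟨A.toList, A.toList, A.nodup_toList, A.nodup_toList, A.toList_toFinset, A.toList_toFinset,
      by rw [hw1, one_mul]⟩
  obtain ⟨x, y, z, v, hxy, hxz, hyz, rfl, hvx, hvy, hvs, hx, hy, hz, hvo⟩ := exists_split hw hw1
  set A' := (A.erase x).erase y with hA'
  have hyA : y ∈ A.erase x := Finset.mem_erase.2 ⟨hxy.symm, hs hy⟩
  have hsub : A' ⊂ A := (Finset.erase_ssubset hyA).trans (Finset.erase_ssubset (hs hx))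
  have hs' : v.support ⊆ A' := fun a ha => by
    have h1 := mem_support.1 ha
    exact Finset.mem_erase.2 ⟨fun e => h1 (e ▸ hvy), Finset.mem_erase.2 ⟨fun e => h1 (e ▸ hvx), hs (hvs.1 ha)⟩⟩
  have hodd : Odd A'.card := by
    have h1 := Finset.card_erase_add_one hyA
    have h2 := Finset.card_erase_add_one (hs hx)
    rw [← hA'] at h1
    obtain ⟨k, hk⟩ := hA
    exact ⟨k - 1, by omega⟩
  obtain ⟨l, m, hl, hm, hlA, hmA, he⟩ := IH A' hsub v hvo hs' hodd
  have hzA : z ∈ A' := Finset.mem_erase.2 ⟨hyz.symm, Finset.mem_erase.2 ⟨hxz.symm, hs hz⟩⟩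
  set pp := v⁻¹ z with hpp
  have hvp : v pp = z := by simp [hpp]
  have hpA : pp ∈ A' := by
    by_cases h : v z = z
    · have : pp = z := Equiv.Perm.inv_eq_iff_eq.2 h.symm
      rw [this]; exact hzA
    · have hzs : z ∈ v.support := mem_support.2 h
      rw [← hvp, apply_mem_support] at hzs
      exact hs' hzs
  obtain ⟨l', hl', hl'A, hl'e⟩ := exists_rotate_head hl (List.mem_toFinset.1 (hlA ▸ hpA))
  obtain ⟨m', hm', hm'A, hm'e⟩ := exists_rotate_head hm (List.mem_toFinset.1 (hmA ▸ hzA))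
  have hxA' : x ∉ A' := by simp [A']
  have hyA' : y ∉ A' := by simp [A']
  have hins : insert x (insert y A') = A := by
    rw [hA', Finset.insert_erase hyA, Finset.insert_erase (hs hx)]
  have hnd : ∀ (q : α) (t : List α) (a b : α), (q :: t).Nodup → (q :: t).toFinset = A' → a ∉ A' → b ∉ A' → a ≠ b →
      (a :: b :: q :: t).Nodup := by
    intro q t a b hqt hqA ha hb hab
    rw [← hqA, List.mem_toFinset] at ha hb
    rw [List.nodup_cons, List.nodup_cons]
    exact ⟨fun h => (List.mem_cons.1 h).elim hab ha, hb, hqt⟩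
  refine ⟨x :: y :: pp :: l', y :: x :: z :: m', hnd _ _ _ _ hl' (hl'A.trans hlA) hxA' hyA' hxy,
    hnd _ _ _ _ hm' (hm'A.trans hmA) hyA' hxA' hxy.symm, ?_, ?_, ?_⟩
  · rw [List.toFinset_cons, List.toFinset_cons, hl'A, hlA, hins]
  · rw [List.toFinset_cons, List.toFinset_cons, hm'A, hmA, Finset.insert_comm, hins]
  · rw [← tri_mul_formPerm x y pp, ← tri_mul_formPerm y x z, hl'e, hm'e, ← he, mul_assoc, ← mul_assoc v, mul_tri,
      hvx, hvy, hvp, mul_assoc, ← mul_assoc (tri x y z), tri_mul_self hxy hxz hyz]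

/-- A non-trivial permutation of odd order carries some cycle missing two points to a full cycle. -/
theorem exists_near_full (A : Finset α) (w : Perm α) (hw : Odd (orderOf w)) (hw1 : w ≠ 1) (hs : w.support ⊆ A)
    (hA : Odd A.card) :
    ∃ l m : List α, l.Nodup ∧ m.Nodup ∧ l.length + 2 = A.card ∧ m.toFinset = A ∧ w * l.formPerm = m.formPerm := by
  obtain ⟨x, y, z, v, hxy, hxz, hyz, rfl, hvx, hvy, hvs, hx, hy, hz, hvo⟩ := exists_split hw hw1
  set A' := (A.erase x).erase y with hA'
  have hyA : y ∈ A.erase x := Finset.mem_erase.2 ⟨hxy.symm, hs hy⟩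
  have hs' : v.support ⊆ A' := fun a ha => by
    have h1 := mem_support.1 ha
    exact Finset.mem_erase.2 ⟨fun e => h1 (e ▸ hvy), Finset.mem_erase.2 ⟨fun e => h1 (e ▸ hvx), hs (hvs.1 ha)⟩⟩
  have h1 := Finset.card_erase_add_one hyA
  have h2 := Finset.card_erase_add_one (hs hx)
  rw [← hA'] at h1
  have hodd : Odd A'.card := by obtain ⟨k, hk⟩ := hA; exact ⟨k - 1, by omega⟩
  obtain ⟨l, m, hl, hm, hlA, hmA, he⟩ := exists_full A' v hvo hs' hodd
  have hzA : z ∈ A' := Finset.mem_erase.2 ⟨hyz.symm, Finset.mem_erase.2 ⟨hxz.symm, hs hz⟩⟩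
  obtain ⟨m', hm', hm'A, hm'e⟩ := exists_rotate_head hm (List.mem_toFinset.1 (hmA ▸ hzA))
  have hxA' : x ∉ (z :: m') := fun h => by
    have h' := List.mem_toFinset.2 h; rw [hm'A, hmA] at h'; simp [A'] at h'
  have hyA' : y ∉ (z :: m') := fun h => by
    have h' := List.mem_toFinset.2 h; rw [hm'A, hmA] at h'; simp [A'] at h'
  refine ⟨l, x :: y :: z :: m', hl, ?_, ?_, ?_, ?_⟩
  · rw [List.nodup_cons, List.nodup_cons]
    exact ⟨fun h => (List.mem_cons.1 h).elim hxy hxA', hyA', hm'⟩
  · rw [← List.toFinset_card_of_nodup hl, hlA]; omega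
  · rw [List.toFinset_cons, List.toFinset_cons, hm'A, hmA, hA', Finset.insert_erase hyA, Finset.insert_erase (hs hx)]
  · rw [mul_assoc, he, ← hm'e, tri_mul_formPerm]

end CfsgLib.AltFreePair
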