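import Cfsg.Agent.AltFreePair.Good

/-!
Pairs of products of three-cycles on five or six points.
-/

set_option autoImplicit false

namespace CfsgLib.AltFreePair

open Equiv Equiv.Perm

theorem good_of_cert {G : Type*} [Group G] {x y a b : G} (n : ℕ) (ha : a ∈ Subgroup.closure ({x, y} : Set G))
    (hb : b ∈ Subgroup.closure ({x, y} : Set G)) (ha1 : a ≠ 1) (ha2 : a ^ 2 = 1) (hb3 : b ^ 3 = 1)
    (hab : (a * b) ^ 5 = 1) (hn : (x * y) ^ n = 1) (hne : x * y ≠ 1) (hcop : n.Coprime 3) : Good 3 x y := by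
  refine ⟨?_, fun hs => ?_⟩
  · rintro ⟨k, hk⟩
    exact hne (orderOf_eq_one_iff.1 (Nat.eq_one_of_dvd_coprimes (hcop.pow_right k)
      (orderOf_dvd_of_pow_eq_one hn) hk.dvd))
  · set K := Subgroup.closure ({a, b} : Set G) with hK
    have hle : K ≤ Subgroup.closure ({x, y} : Set G) := (Subgroup.closure_le _).2 (by
      rintro z (rfl | rfl) <;> assumption)
    haveI := hs
    haveI : Group.IsSolvable K := solvable_of_solvable_injective (Subgroup.inclusion_injective hle)
    haveI : Nontrivial K :=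
      ⟨⟨⟨a, Subgroup.subset_closure (Or.inl rfl)⟩, 1, fun e => ha1 (congrArg Subtype.val e)⟩⟩
    set A : K := ⟨a, Subgroup.subset_closure (Or.inl rfl)⟩ with hA
    set B : K := ⟨b, Subgroup.subset_closure (Or.inr rfl)⟩ with hB
    have h2 : (Abelianization.of A) ^ 2 = 1 := by
      rw [← map_pow, show A ^ 2 = 1 from Subtype.ext (by simpa [hA] using ha2), map_one]
    have h3 : (Abelianization.of B) ^ 3 = 1 := by
      rw [← map_pow, show B ^ 3 = 1 from Subtype.ext (by simpa [hB] using hb3), map_one]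
    have h5 : (Abelianization.of A) ^ 5 * (Abelianization.of B) ^ 5 = 1 := by
      rw [← mul_pow, ← map_mul, ← map_pow,
        show (A * B) ^ 5 = 1 from Subtype.ext (by simpa [hA, hB] using hab), map_one]
    generalize hP : Abelianization.of A = P at h2 h3 h5
    generalize hQ : Abelianization.of B = Q at h3 h5
    have hPQ : P = 1 ∧ Q = 1 := by
      have e5 : P * Q ^ 2 = 1 := by
        rw [show P ^ 5 = (P ^ 2) ^ 2 * P by rw [← pow_mul, ← pow_succ], h2, one_pow, one_mul,
          show Q ^ 5 = Q ^ 3 * Q ^ 2 by rw [← pow_add], h3, one_mul] at h5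
        exact h5
      have hPe : P = Q := by
        calc P = P * Q ^ 3 := by rw [h3, mul_one]
          _ = P * Q ^ 2 * Q := by rw [mul_assoc, ← pow_succ]
          _ = Q := by rw [e5, one_mul]
      subst hPe
      have : P = 1 := by
        rw [pow_succ, h2, one_mul] at h3; exact h3
      exact ⟨this, this⟩
    refine ne_of_lt (IsSolvable.commutator_lt_top_of_nontrivial K) (eq_top_iff.2 ?_)
    rintro ⟨z, hz⟩ -
    rw [← Abelianization.ker_of, MonoidHom.mem_ker]
    induction hz using Subgroup.closure_induction with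
    | mem c hc =>
      rcases (id hc : c = a ∨ c = b) with h | h
      · rw [show (⟨c, Subgroup.subset_closure hc⟩ : K) = A from Subtype.ext h, hP]; exact hPQ.1
      · rw [show (⟨c, Subgroup.subset_closure hc⟩ : K) = B from Subtype.ext h, hQ]; exact hPQ.2
    | one => exact map_one _
    | mul c d hc hd ihc ihd =>
      exact (map_mul Abelianization.of (⟨c, hc⟩ : K) ⟨d, hd⟩).trans (by rw [ihc, ihd, one_mul])
    | inv c hc ihc => exact (map_inv Abelianization.of (⟨c, hc⟩ : K)).trans (by rw [ihc, inv_one])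

/-- The standard element with one three-cycle. -/
def one5 : Perm (Fin 5) := List.formPerm [0, 1, 2]

/-- The standard element with one three-cycle on six points. -/
def one6 : Perm (Fin 6) := List.formPerm [0, 1, 2]

/-- The standard element with two three-cycles. -/
def two6 : Perm (Fin 6) := List.formPerm [0, 1, 2] * List.formPerm [3, 4, 5]

theorem word5 {G : Type*} [Group G] (x y : G) :
    x * x * y * x * y ∈ Subgroup.closure ({x, y} : Set G) ∧ x * y * x * y ∈ Subgroup.closure ({x, y} : Set G) := by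
  have hx : x ∈ Subgroup.closure ({x, y} : Set G) := Subgroup.subset_closure (Or.inl rfl)
  have hy : y ∈ Subgroup.closure ({x, y} : Set G) := Subgroup.subset_closure (Or.inr rfl)
  exact ⟨mul_mem (mul_mem (mul_mem (mul_mem hx hx) hy) hx) hy, mul_mem (mul_mem (mul_mem hx hy) hx) hy⟩

theorem small11 (ε : ℤˣ) : ∃ h : Perm (Fin 5), Perm.sign h = ε ∧ Good 3 one5 (h * one5 * h⁻¹) := by
  rcases Int.units_eq_one_or ε with rfl | rfl
  · refine ⟨Equiv.swap 1 3 * Equiv.swap 2 4, by decide,
      good_of_cert 5 (word5 _ _).1 (Subgroup.subset_closure (Or.inl rfl)) ?_ ?_ ?_ ?_ ?_ ?_ (by norm_num)⟩ <;>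
      decide +kernel
  · refine ⟨List.formPerm [1, 3, 2, 4], by decide,
      good_of_cert 5 (word5 _ _).1 (Subgroup.subset_closure (Or.inl rfl)) ?_ ?_ ?_ ?_ ?_ ?_ (by norm_num)⟩ <;>
      decide +kernel

theorem small21 (ε : ℤˣ) : ∃ h : Perm (Fin 6), Perm.sign h = ε ∧ Good 3 two6 (h * one6 * h⁻¹) := by
  rcases Int.units_eq_one_or ε with rfl | rfl
  · refine ⟨Equiv.swap 2 3 * Equiv.swap 4 5, by decide,
      good_of_cert 4 (word5 _ _).2 (Subgroup.subset_closure (Or.inl rfl)) ?_ ?_ ?_ ?_ ?_ ?_ (by norm_num)⟩ <;>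
      decide +kernel
  · refine ⟨Equiv.swap 2 3, by decide,
      good_of_cert 4 (word5 _ _).2 (Subgroup.subset_closure (Or.inl rfl)) ?_ ?_ ?_ ?_ ?_ ?_ (by norm_num)⟩ <;>
      decide +kernel

theorem small22 (ε : ℤˣ) : ∃ h : Perm (Fin 6), Perm.sign h = ε ∧ Good 3 two6 (h * two6 * h⁻¹) := by
  rcases Int.units_eq_one_or ε with rfl | rfl
  · refine ⟨Equiv.swap 2 3 * Equiv.swap 4 5, by decide,
      good_of_cert 5 (word5 _ _).1 (Subgroup.subset_closure (Or.inl rfl)) ?_ ?_ ?_ ?_ ?_ ?_ (by norm_num)⟩ <;>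
      decide +kernel
  · refine ⟨Equiv.swap 1 3 * List.formPerm [2, 4, 5], by decide,
      good_of_cert 5 (word5 _ _).1 (Subgroup.subset_closure (Or.inl rfl)) ?_ ?_ ?_ ?_ ?_ ?_ (by norm_num)⟩ <;>
      decide +kernel

end CfsgLib.AltFreePair
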