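import Cfsg.Agent.AltFreePair.Big
import Cfsg.Agent.AltFreePair.Small

/-!
Two permutations of odd prime power order generate a non-solvable group after an even conjugation.
-/

set_option autoImplicit false
set_option linter.style.haveILetI false

namespace CfsgLib.AltFreePair

open Equiv Equiv.Perm

variable {α : Type*} [Fintype α] [DecidableEq α] {p : ℕ}

/-- An even conjugation making the pair good. -/
def Arr (p : ℕ) (u w : Perm α) : Prop := ∃ g : Perm α, Perm.sign g = 1 ∧ Good p u (g * w * g⁻¹)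

theorem Arr.symm (hp : p.Prime) {u w : Perm α} (h : Arr p w u) : Arr p u w := by
  obtain ⟨g, hg, hG⟩ := h
  refine ⟨g⁻¹, by rw [map_inv, hg, inv_one], ?_⟩
  have := (hG.conj hp g⁻¹).symm
  rw [show g⁻¹ * (g * u * g⁻¹) * g⁻¹⁻¹ = u by group] at this
  exact this

theorem exists_map_embed {β : Type*} [Fintype β] {f f' : β → α} (hf : Function.Injective f)
    (hf' : Function.Injective f') : ∃ g : Perm α, ∀ b, g (f b) = f' b := by
  classical
  let e : {a // a ∈ Set.range f} ≃ {a // a ∈ Set.range f'} :=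
    (Equiv.ofInjective f hf).symm.trans (Equiv.ofInjective f' hf')
  refine ⟨e.extendSubtype, fun b => ?_⟩
  rw [Equiv.extendSubtype_apply_of_mem e (f b) ⟨b, rfl⟩]
  show (((Equiv.ofInjective f hf).symm.trans (Equiv.ofInjective f' hf')) ⟨f b, b, rfl⟩).1 = _
  rw [Equiv.trans_apply, Equiv.ofInjective_symm_apply]
  rfl

/-- Lift a good arrangement from an invariant subset. -/
theorem exists_lift {β : Type*} [Fintype β] [DecidableEq β] (hp : p.Prime) {u w : Perm α} {f f' : β → α}
    (hf : Function.Injective f) (hf' : Function.Injective f') {u' w' : Perm β} (hu : ∀ b, u (f b) = f (u' b))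
    (hw : ∀ b, w (f' b) = f' (w' b)) :
    ∃ g₀ : Perm α, ∀ h : Perm β, Good p u' (h * w' * h⁻¹) → ∀ τ : Perm α, (∀ b, τ (f b) = f b) →
      ∃ g : Perm α, Perm.sign g = Perm.sign τ * Perm.sign h * Perm.sign g₀ ∧ Good p u (g * w * g⁻¹) := by
  classical
  obtain ⟨g₀, hg₀⟩ := exists_map_embed hf' hf
  refine ⟨g₀, fun h hG τ hτ => ?_⟩
  set e := h.extendDomain (Equiv.ofInjective f hf) with he
  have hef : ∀ b, e (f b) = f (h b) := fun b => Equiv.Perm.extendDomain_apply_image h (Equiv.ofInjective f hf) b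
  refine ⟨τ * e * g₀, by rw [map_mul, map_mul, he, Perm.sign_extendDomain], Good.of_embed hp hf hu ?_ hG⟩
  intro b
  have hg : ∀ c, (τ * e * g₀) (f' c) = f (h c) := fun c => by
    rw [Perm.mul_apply, Perm.mul_apply, hg₀, hef, hτ]
  have h1 : (τ * e * g₀)⁻¹ (f b) = f' (h⁻¹ b) := by
    apply (τ * e * g₀).injective
    rw [hg]; simp
  rw [Perm.mul_apply, Perm.mul_apply, h1, hw, hg]
  rfl

theorem arr_both {β : Type*} [Fintype β] [DecidableEq β] (hp : p.Prime) {u w : Perm α} {f f' : β → α}
    (hf : Function.Injective f) (hf' : Function.Injective f') {u' w' : Perm β} (hu : ∀ b, u (f b) = f (u' b))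
    (hw : ∀ b, w (f' b) = f' (w' b)) (hh : ∀ ε : ℤˣ, ∃ h : Perm β, Perm.sign h = ε ∧ Good p u' (h * w' * h⁻¹)) :
    Arr p u w := by
  obtain ⟨g₀, hg₀⟩ := exists_lift (p := p) hp hf hf' hu hw
  obtain ⟨h, hs, hG⟩ := hh (Perm.sign g₀)
  obtain ⟨g, hg, hG'⟩ := hg₀ h hG 1 fun _ => rfl
  exact ⟨g, by rw [hg, map_one, one_mul, hs, Int.units_mul_self], hG'⟩

theorem arr_one {β : Type*} [Fintype β] [DecidableEq β] (hp : p.Prime) {u w : Perm α} {f f' : β → α}
    (hf : Function.Injective f) (hf' : Function.Injective f') {u' w' : Perm β} (hu : ∀ b, u (f b) = f (u' b))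
    (hw : ∀ b, w (f' b) = f' (w' b)) (hh : ∃ h : Perm β, Good p u' (h * w' * h⁻¹))
    (hflip : (∃ k : Perm α, Perm.sign k = -1 ∧ Commute k w) ∨ Fintype.card β + 2 ≤ Fintype.card α) :
    Arr p u w := by
  classical
  obtain ⟨g₀, hg₀⟩ := exists_lift (p := p) hp hf hf' hu hw
  obtain ⟨h, hG⟩ := hh
  obtain ⟨g, hg, hG'⟩ := hg₀ h hG 1 fun _ => rfl
  rw [map_one, one_mul] at hg
  rcases Int.units_eq_one_or (Perm.sign g) with h1 | h1
  · exact ⟨g, h1, hG'⟩
  rcases hflip with ⟨k, hk, hkw⟩ | hcard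
  · refine ⟨g * k, by rw [map_mul, h1, hk]; rfl, ?_⟩
    rwa [show g * k * w * (g * k)⁻¹ = g * w * g⁻¹ by
      rw [mul_assoc g k w, hkw.eq]; group]
  · have hc : 1 < (Finset.univ \ Finset.univ.image f).card := by
      rw [Finset.card_sdiff_of_subset (Finset.subset_univ _), Finset.card_image_of_injective _ hf, Finset.card_univ,
        Finset.card_univ]
      omega
    obtain ⟨a, ha, b, hb, hab⟩ := Finset.one_lt_card.1 hc
    simp only [Finset.mem_sdiff, Finset.mem_univ, true_and, Finset.mem_image, not_exists] at ha hb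
    obtain ⟨g', hg', hG''⟩ := hg₀ h hG (Equiv.swap a b) fun c => Equiv.swap_apply_of_ne_of_ne (ha c) (hb c)
    refine ⟨g', ?_, hG''⟩
    rw [hg', Perm.sign_swap hab, mul_assoc, ← hg, h1]; rfl

/-! ### Orbits -/

/-- The orbit of a point. -/
noncomputable def orb (w : Perm α) (x : α) : Finset α := by
  classical exact Finset.univ.filter fun y => w.SameCycle x y

theorem mem_orb {w : Perm α} {x y : α} : y ∈ orb w x ↔ w.SameCycle x y := by
  classical simp [orb]

theorem orb_self (w : Perm α) (x : α) : x ∈ orb w x := mem_orb.2 (SameCycle.refl _ _)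

theorem card_orb (hp : p.Prime) {w : Perm α} (hw : ∃ k, orderOf w = p ^ k) (x : α) :
    ∃ k, (orb w x).card = p ^ k := by
  classical
  haveI := Fact.mk hp
  obtain ⟨j, hj⟩ := hw
  by_cases hx : w x = x
  · refine ⟨0, ?_⟩
    rw [pow_zero, Finset.card_eq_one]
    refine ⟨x, Finset.ext fun y => ?_⟩
    rw [mem_orb, Finset.mem_singleton]
    exact ⟨fun h => (h.eq_of_left hx).symm, fun h => h ▸ SameCycle.refl _ _⟩
  · have e : orb w x = (w.cycleOf x).support := Finset.ext fun y => by
      rw [mem_orb, mem_support_cycleOf_iff' hx]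
    have h1 : (w.cycleOf x).support.card ∣ p ^ j := by
      rw [← hj, ← lcm_cycleType w]
      refine Multiset.dvd_lcm (Multiset.mem_map.2 ⟨w.cycleOf x, ?_, rfl⟩)
      exact cycleOf_mem_cycleFactorsFinset_iff.2 (mem_support.2 hx)
    obtain ⟨k, -, hk⟩ := (Nat.dvd_prime_pow hp).1 h1
    exact ⟨k, e ▸ hk⟩

/-- Invariance under a permutation. -/
def Inv (w : Perm α) (X : Finset α) : Prop := ∀ y ∈ X, orb w y ⊆ X

theorem inv_orb (w : Perm α) (x : α) : Inv w (orb w x) := fun _ hy _ hz =>
  mem_orb.2 ((mem_orb.1 hy).trans (mem_orb.1 hz))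

theorem exists_block (hp : p.Prime) {w : Perm α} (hw : ∃ k, orderOf w = p ^ k) :
    ∀ (i : ℕ) (X : Finset α) (x : α), Inv w X → x ∈ X → (∀ y ∈ X, (orb w y).card ≤ (orb w x).card) →
      (orb w x).card ≤ p ^ i → p ^ i ≤ X.card → ∃ B ⊆ X, Inv w B ∧ x ∈ B ∧ B.card = p ^ i := by
  classical
  intro i
  induction i with
  | zero =>
    intro X x hX hx _ hle _
    refine ⟨orb w x, hX x hx, inv_orb w x, orb_self w x, le_antisymm hle ?_⟩
    rw [pow_zero]; exact Finset.card_pos.2 ⟨x, orb_self w x⟩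
  | succ i ih =>
    intro X x hX hx hmax hle hcard
    obtain ⟨k, hk⟩ := card_orb hp hw x
    rcases eq_or_lt_of_le hle with he | hlt
    · exact ⟨orb w x, hX x hx, inv_orb w x, orb_self w x, he⟩
    have hki : (orb w x).card ≤ p ^ i := by
      rw [hk] at hlt ⊢
      exact Nat.pow_le_pow_right hp.pos (Nat.lt_succ_iff.1 ((Nat.pow_lt_pow_iff_right hp.one_lt).1 hlt))
    have claim : ∀ m, m ≤ p → ∃ B ⊆ X, Inv w B ∧ (1 ≤ m → x ∈ B) ∧ B.card = m * p ^ i := by
      intro m
      induction m with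
      | zero => exact fun _ => ⟨∅, Finset.empty_subset _, fun y hy => by simp at hy, fun h => by simp at h, by simp⟩
      | succ m ihm =>
        intro hm
        obtain ⟨B, hBX, hBi, hxB, hBc⟩ := ihm (by omega)
        have hX' : Inv w (X \ B) := fun y hy z hz => by
          rw [Finset.mem_sdiff] at hy ⊢
          exact ⟨hX y hy.1 hz, fun h => hy.2 (hBi z h (mem_orb.2 (mem_orb.1 hz).symm))⟩
        have hc' : p ^ i ≤ (X \ B).card := by
          rw [Finset.card_sdiff_of_subset hBX, hBc]
          have : (m + 1) * p ^ i ≤ X.card := le_trans (by rw [pow_succ']; exact Nat.mul_le_mul_right _ hm) hcard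
          rw [add_mul, one_mul] at this
          omega
        obtain ⟨x', hx', hmax'⟩ := Finset.exists_max_image (X \ B) (fun y => (orb w y).card)
          (Finset.card_pos.1 (lt_of_lt_of_le (pow_pos hp.pos i) hc'))
        obtain ⟨x'', hx'', hmax'', hxx⟩ : ∃ x'' ∈ X \ B, (∀ y ∈ X \ B, (orb w y).card ≤ (orb w x'').card) ∧
            (m = 0 → x'' = x) := by
          by_cases hm0 : m = 0
          · subst hm0
            have hB0 : B = ∅ := Finset.card_eq_zero.1 (by simpa using hBc)
            subst hB0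
            exact ⟨x, by simpa using hx, fun y hy => hmax y (by simpa using hy), fun _ => rfl⟩
          · exact ⟨x', hx', hmax', fun h => absurd h hm0⟩
        obtain ⟨C, hCX, hCi, hxC, hCc⟩ := ih (X \ B) x'' hX' hx'' hmax''
          ((hmax x'' (Finset.mem_sdiff.1 hx'').1).trans hki) hc'
        refine ⟨B ∪ C, Finset.union_subset hBX (hCX.trans Finset.sdiff_subset), fun y hy => ?_, fun _ => ?_, ?_⟩
        · rcases Finset.mem_union.1 hy with h | h
          · exact (hBi y h).trans Finset.subset_union_left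
          · exact (hCi y h).trans Finset.subset_union_right
        · rcases Nat.eq_zero_or_pos m with h | h
          · exact Finset.mem_union_right _ (hxx h ▸ hxC)
          · exact Finset.mem_union_left _ (hxB h)
        · rw [Finset.card_union_of_disjoint (Finset.disjoint_left.2 fun a ha hc => (Finset.mem_sdiff.1 (hCX hc)).2 ha),
            hBc, hCc, add_mul, one_mul]
    obtain ⟨B, hBX, hBi, hxB, hBc⟩ := claim p le_rfl
    exact ⟨B, hBX, hBi, hxB hp.one_lt.le, by rw [hBc, pow_succ']⟩

/-- The restriction to an invariant set. -/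
theorem exists_restrict {w : Perm α} {X : Finset α} (hX : Inv w X) :
    ∃ w' : Perm X, ∀ b : X, w (b : α) = ((w' b : X) : α) :=
  ⟨w.subtypePerm fun y => ⟨fun h => hX (w y) h (mem_orb.2 (SameCycle.refl w y).apply_left),
    fun h => hX y h (mem_orb.2 (SameCycle.refl w y).apply_right)⟩, fun _ => rfl⟩

/-- A permutation with two equal cycles or two fixed points commutes with an odd permutation. -/
theorem exists_odd_commute (hp : p.Prime) (hp3 : 3 ≤ p) {w : Perm α} (hw : ∃ k, orderOf w = p ^ k) {i : ℕ}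
    (hlt : ∀ x, (orb w x).card < p ^ i) (hn : p ^ i ≤ Fintype.card α) :
    ∃ k : Perm α, Perm.sign k = -1 ∧ Commute k w := by
  classical
  by_contra hno
  push Not at hno
  have hle : Subgroup.centralizer ({w} : Set (Perm α)) ≤ alternatingGroup α := fun k hk => by
    rw [Equiv.Perm.mem_alternatingGroup]
    rcases Int.units_eq_one_or (Perm.sign k) with h | h
    · exact h
    · exact absurd (Subgroup.mem_centralizer_singleton_iff.1 hk) (hno k h)
  obtain ⟨-, hfix, hcount⟩ := Equiv.Perm.centralizer_le_alternating_iff.1 hle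
  have hnd : w.cycleType.Nodup := Multiset.nodup_iff_count_le_one.2 hcount
  have hsub : w.cycleType.toFinset ⊆ (Finset.Ico 1 i).image (p ^ ·) := by
    intro c hc
    rw [Multiset.mem_toFinset, cycleType_def] at hc
    obtain ⟨σ, hσ, rfl⟩ := Multiset.mem_map.1 hc
    rw [Finset.mem_val, mem_cycleFactorsFinset_iff] at hσ
    obtain ⟨x, hx⟩ := hσ.1.nonempty_support
    have e : orb w x = σ.support := Finset.ext fun y => by
      rw [mem_orb, (cycle_is_cycleOf hx (mem_cycleFactorsFinset_iff.2 hσ)).trans rfl,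
        mem_support_cycleOf_iff' (by rw [← (hσ.2 x hx)]; exact mem_support.1 hx)]
    obtain ⟨k, hk⟩ := card_orb hp hw x
    refine Finset.mem_image.2 ⟨k, Finset.mem_Ico.2 ⟨?_, ?_⟩, ?_⟩
    · by_contra hk0
      have := hσ.1.two_le_card_support
      rw [← e, hk, show k = 0 by omega, pow_zero] at this
      omega
    · exact (Nat.pow_lt_pow_iff_right hp.one_lt).1 (hk ▸ hlt x)
    · show p ^ k = _
      rw [← hk, e]; rfl
  have hsum : w.cycleType.sum ≤ ∑ k ∈ Finset.Ico 1 i, p ^ k := by
    have himg : ∑ c ∈ (Finset.Ico 1 i).image (p ^ ·), id c = ∑ k ∈ Finset.Ico 1 i, p ^ k :=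
      Finset.sum_image (fun a _ b _ h => Nat.pow_right_injective hp.two_le h)
    rw [← himg, show w.cycleType.sum = ∑ c ∈ w.cycleType.toFinset, id c by
        rw [Finset.sum_eq_multiset_sum, Multiset.map_id, Multiset.toFinset_val, hnd.dedup]]
    exact Finset.sum_le_sum_of_subset hsub
  have hgeo : ∀ j, 2 * ∑ k ∈ Finset.Ico 1 j, p ^ k + 3 ≤ p ^ j + 2 ∨ j = 0 := by
    intro j
    induction j with
    | zero => exact Or.inr rfl
    | succ j ihj =>
      left
      rcases Nat.eq_zero_or_pos j with rfl | hj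
      · simp; omega
      · rw [Finset.sum_Ico_succ_top (show 1 ≤ j by omega), pow_succ]
        have h := ihj.resolve_right (by omega)
        have : p ^ j * 3 ≤ p ^ j * p := Nat.mul_le_mul_left _ hp3
        omega
  rcases eq_or_ne i 0 with rfl | hi
  · obtain ⟨x⟩ : Nonempty α := Fintype.card_pos_iff.1 (by rw [pow_zero] at hn; omega)
    have := hlt x
    rw [pow_zero, Nat.lt_one_iff] at this
    exact (Finset.card_pos.2 ⟨x, orb_self w x⟩).ne' this
  · rcases hgeo i with h | h
    · have : 3 ≤ p ^ i := hp3.trans (Nat.le_self_pow hi p)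
      omega
    · exact hi h

theorem cycle_of_orb {w : Perm α} {x : α} (hx : 1 < (orb w x).card) {w' : Perm (orb w x)}
    (hw' : ∀ b : orb w x, w (b : α) = ((w' b : orb w x) : α)) : w'.IsCycle ∧ w'.support = Finset.univ := by
  classical
  have hmove : ∀ b : orb w x, w' b ≠ b := fun b e => by
    have h1 : w (b : α) = b := by rw [hw' b, e]
    obtain ⟨y, hy, z, hz, hyz⟩ := Finset.one_lt_card.1 hx
    refine hyz ?_
    have hb := mem_orb.1 b.2
    rw [← (hb.symm.trans (mem_orb.1 hy)).eq_of_left h1, ← (hb.symm.trans (mem_orb.1 hz)).eq_of_left h1]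
  have hpow : ∀ (n : ℕ) (b : orb w x), (w ^ n) (b : α) = (((w' ^ n) b : orb w x) : α) := by
    intro n
    induction n with
    | zero => exact fun b => rfl
    | succ n ih => exact fun b => by rw [pow_succ, Perm.mul_apply, hw', ih, pow_succ, Perm.mul_apply]
  refine ⟨⟨⟨x, orb_self w x⟩, hmove _, fun b _ => ?_⟩, Finset.eq_univ_iff_forall.2 fun b => mem_support.2 (hmove b)⟩
  obtain ⟨n, hn⟩ := (mem_orb.1 b.2).exists_nat_pow_eq
  refine SameCycle.trans (SameCycle.refl _ _) ⟨n, Subtype.ext ?_⟩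
  rw [zpow_natCast, ← hpow]; exact hn

/-- The case of a long cycle. -/
theorem arr_big (hp : p.Prime) (hp3 : 3 ≤ p) {u w : Perm α} (hw : ∃ k, orderOf w = p ^ k) (hw1 : w ≠ 1) {i : ℕ}
    {x : α} (hx : (orb u x).card = p ^ i) (h5 : 5 ≤ p ^ i) (hle : ∀ y, (orb w y).card ≤ p ^ i) : Arr p u w := by
  classical
  have hi : i ≠ 0 := fun h => by rw [h, pow_zero] at h5; omega
  obtain ⟨u', hu'⟩ := exists_restrict (inv_orb u x)
  obtain ⟨hcu, hsu⟩ := cycle_of_orb (by omega) hu'
  have hcardA : Fintype.card (orb u x) = p ^ i := by rw [Fintype.card_coe, hx]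
  have hn : p ^ i ≤ Fintype.card α := hx ▸ Finset.card_le_univ _
  obtain ⟨z, -, hmax⟩ := Finset.exists_max_image Finset.univ (fun y => (orb w y).card) ⟨x, Finset.mem_univ _⟩
  have hinj : Function.Injective (Subtype.val : orb u x → α) := Subtype.val_injective
  by_cases hfull : (orb w z).card = p ^ i
  · -- `w` has a cycle of the same length
    obtain ⟨w', hw'⟩ := exists_restrict (inv_orb w z)
    obtain ⟨hcw, hsw⟩ := cycle_of_orb (by omega) hw'
    let e : orb u x ≃ orb w z := Fintype.equivOfCardEq (by rw [Fintype.card_coe, Fintype.card_coe, hx, hfull])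
    set W : Perm (orb u x) := e.symm.permCongr w' with hW
    have hWw : ∀ b, w ((e b : orb w z) : α) = ((e (W b) : orb w z) : α) := fun b => by
      rw [hw', hW, Equiv.permCongr_apply, Equiv.symm_symm, Equiv.apply_symm_apply]
    have hWeq : W = w'.extendDomain (p := fun _ => True) (e.symm.trans (Equiv.subtypeUnivEquiv fun _ => trivial).symm) := by
      ext b
      rw [hW, Equiv.permCongr_apply, Equiv.Perm.extendDomain_apply_subtype _ _ trivial]
      rfl
    have hWc : W.IsCycle := hWeq ▸ hcw.extendDomain _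
    have hWs : W.support = Finset.univ := Finset.eq_univ_iff_forall.2 fun b => mem_support.2 fun h => by
      rw [hW, Equiv.permCongr_apply, Equiv.symm_apply_eq] at h
      exact mem_support.1 (hsw ▸ Finset.mem_univ _) h
    obtain ⟨c, hc⟩ := isConj_iff.1 (hWc.isConj hcu (by rw [hWs, hsu]))
    refine arr_both hp hinj (f' := fun b => ((e b : orb w z) : α)) (Subtype.val_injective.comp e.injective)
      hu' hWw fun ε => ?_
    obtain ⟨s, hs, hG⟩ := good_single hp hp3 hi hcardA (by omega) hcu hsu (ε * Perm.sign c)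
    refine ⟨s * c, by rw [map_mul, hs, mul_assoc, Int.units_mul_self, mul_one], ?_⟩
    rwa [show s * c * W * (s * c)⁻¹ = s * (c * W * c⁻¹) * s⁻¹ by group, hc]
  · have hz1 : 1 < (orb w z).card := by
      obtain ⟨y, hy⟩ : ∃ y, w y ≠ y := by
        by_contra h; push Not at h; exact hw1 (Equiv.ext h)
      refine lt_of_lt_of_le (Finset.one_lt_card.2 ⟨y, orb_self w y, w y, ?_, hy.symm⟩) (hmax y (Finset.mem_univ _))
      exact mem_orb.2 (SameCycle.refl w y).apply_right
    obtain ⟨B, -, hB, hzB, hBc⟩ := exists_block hp hw i Finset.univ z (fun y _ => Finset.subset_univ _)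
      (Finset.mem_univ _) (fun y _ => hmax y (Finset.mem_univ _)) (hle z) (by rwa [Finset.card_univ])
    obtain ⟨w', hw'⟩ := exists_restrict hB
    let e : orb u x ≃ B := Fintype.equivOfCardEq (by rw [Fintype.card_coe, Fintype.card_coe, hx, hBc])
    set W : Perm (orb u x) := e.symm.permCongr w' with hW
    have hWw : ∀ b, w ((e b : B) : α) = ((e (W b) : B) : α) := fun b => by
      rw [hw', hW, Equiv.permCongr_apply, Equiv.symm_symm, Equiv.apply_symm_apply]
    have hW1 : W ≠ 1 := fun h => by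
      have h1 := hWw (e.symm ⟨z, hzB⟩)
      rw [h, Perm.one_apply, Equiv.apply_symm_apply] at h1
      obtain ⟨y, hy, y', hy', hne⟩ := Finset.one_lt_card.1 hz1
      exact hne ((((mem_orb.1 hy).eq_of_left h1)).symm.trans ((mem_orb.1 hy').eq_of_left h1))
    have hWo : Odd (orderOf W) := by
      obtain ⟨k, hk⟩ := hw
      refine Odd.of_dvd_nat ((hp.odd_of_ne_two (by omega)).pow (n := k)) (orderOf_dvd_of_pow_eq_one ?_)
      have hpow : ∀ (n : ℕ) (b : orb u x), (w ^ n) ((e b : B) : α) = ((e ((W ^ n) b) : B) : α) := by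
        intro n
        induction n with
        | zero => exact fun b => rfl
        | succ n ih => exact fun b => by rw [pow_succ, Perm.mul_apply, hWw, ih, pow_succ, Perm.mul_apply]
      ext b
      have := hpow (p ^ k) b
      rw [← hk, pow_orderOf_eq_one, Perm.one_apply, hk] at this
      rw [Perm.one_apply, ← e.injective (Subtype.ext this)]
    refine arr_one hp hinj (f' := fun b => ((e b : B) : α)) (Subtype.val_injective.comp e.injective) hu' hWw
      (good_general hp hp3 hi hcardA (by omega) hcu hsu hW1 hWo) (Or.inl ?_)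
    exact exists_odd_commute hp hp3 hw
      (fun y => lt_of_le_of_lt (hmax y (Finset.mem_univ _)) (lt_of_le_of_ne (hle z) hfull)) hn

/-! ### Products of three-cycles -/

/-- Two orbits of length three. -/
def Two (w : Perm α) : Prop := ∃ x y, w x ≠ x ∧ w y ≠ y ∧ y ≠ x ∧ y ≠ w x ∧ y ≠ w (w x)

theorem cube_apply {w : Perm α} (hw : w ^ 3 = 1) (x : α) : w (w (w x)) = x := by
  have := congrArg (fun f : Perm α => f x) hw
  simpa [pow_succ, Perm.mul_apply] using this

theorem triple_ne {w : Perm α} (hw : w ^ 3 = 1) {x : α} (hx : w x ≠ x) :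
    w (w x) ≠ x ∧ w (w x) ≠ w x := by
  refine ⟨fun h => hx ?_, fun h => hx (w.injective h)⟩
  have := cube_apply hw x
  rw [h] at this; exact this

theorem embed_two6 {w : Perm α} (hw : w ^ 3 = 1) (h : Two w) :
    ∃ f : Fin 6 → α, Function.Injective f ∧ ∀ b, w (f b) = f (two6 b) := by
  obtain ⟨x, y, hx, hy, h1, h2, h3⟩ := h
  obtain ⟨a1, a2⟩ := triple_ne hw hx
  obtain ⟨b1, b2⟩ := triple_ne hw hy
  have cx := cube_apply hw x
  have cy := cube_apply hw y
  have k1 : w y ≠ x := fun e => h3 (by rw [← e, cy])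
  have k2 : w y ≠ w x := fun e => h1 (w.injective e)
  have k3 : w y ≠ w (w x) := fun e => h2 (w.injective e)
  have k4 : w (w y) ≠ x := fun e => h2 (by rw [← e, cy])
  have k5 : w (w y) ≠ w x := fun e => k1 (w.injective e)
  have k6 : w (w y) ≠ w (w x) := fun e => h1 (w.injective (w.injective e))
  refine ⟨![x, w x, w (w x), y, w y, w (w y)], ?_, ?_⟩
  · intro a b e
    fin_cases a <;> fin_cases b <;> simp at e <;> first
      | rfl
      | exact absurd e (by assumption)
      | exact absurd e.symm (by assumption)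
  · intro b
    fin_cases b <;> simp [two6, List.formPerm_cons_cons, Equiv.swap_apply_def, cx, cy]

theorem orbit_complement {w : Perm α} (h : ¬ Two w) {x : α} (hx : w x ≠ x) {z : α}
    (hz : z ∈ Finset.univ \ {x, w x, w (w x)}) : w z = z ∧ z ≠ x ∧ z ≠ w x ∧ z ≠ w (w x) := by
  simp only [Finset.mem_sdiff, Finset.mem_univ, true_and, Finset.mem_insert, Finset.mem_singleton, not_or] at hz
  refine ⟨?_, hz⟩
  by_contra hne
  exact h ⟨x, z, hx, hne, hz.1, hz.2.1, hz.2.2⟩

theorem embed_one5 {w : Perm α} (hw : w ^ 3 = 1) (hw1 : w ≠ 1) (h : ¬ Two w) (hn : 5 ≤ Fintype.card α) :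
    ∃ f : Fin 5 → α, Function.Injective f ∧ ∀ b, w (f b) = f (one5 b) := by
  obtain ⟨x, hx⟩ : ∃ x, w x ≠ x := by by_contra h'; push Not at h'; exact hw1 (Equiv.ext h')
  obtain ⟨a1, a2⟩ := triple_ne hw hx
  have cx := cube_apply hw x
  have hc : 1 < (Finset.univ \ {x, w x, w (w x)} : Finset α).card := by
    rw [Finset.card_sdiff_of_subset (Finset.subset_univ _), Finset.card_univ]
    have := Finset.card_le_three (a := x) (b := w x) (c := w (w x))
    omega
  obtain ⟨y, hy, z, hz, hyz⟩ := Finset.one_lt_card.1 hc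
  obtain ⟨fy, y1, y2, y3⟩ := orbit_complement h hx hy
  obtain ⟨fz, z1, z2, z3⟩ := orbit_complement h hx hz
  refine ⟨![x, w x, w (w x), y, z], ?_, ?_⟩
  · intro a b e
    fin_cases a <;> fin_cases b <;> simp at e <;> first
      | rfl
      | exact absurd e (by assumption)
      | exact absurd e.symm (by assumption)
  · intro b
    fin_cases b <;> simp [one5, List.formPerm_cons_cons, Equiv.swap_apply_def, cx, fy, fz]

theorem embed_one6 {w : Perm α} (hw : w ^ 3 = 1) (hw1 : w ≠ 1) (h : ¬ Two w) (hn : 6 ≤ Fintype.card α) :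
    ∃ f : Fin 6 → α, Function.Injective f ∧ ∀ b, w (f b) = f (one6 b) := by
  obtain ⟨x, hx⟩ : ∃ x, w x ≠ x := by by_contra h'; push Not at h'; exact hw1 (Equiv.ext h')
  obtain ⟨a1, a2⟩ := triple_ne hw hx
  have cx := cube_apply hw x
  have hc : 2 < (Finset.univ \ {x, w x, w (w x)} : Finset α).card := by
    rw [Finset.card_sdiff_of_subset (Finset.subset_univ _), Finset.card_univ]
    have := Finset.card_le_three (a := x) (b := w x) (c := w (w x))
    omega
  obtain ⟨y, z, t, hy, hz, ht, hyz, hyt, hzt⟩ := Finset.two_lt_card_iff.1 hc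
  obtain ⟨fy, y1, y2, y3⟩ := orbit_complement h hx hy
  obtain ⟨fz, z1, z2, z3⟩ := orbit_complement h hx hz
  obtain ⟨ft, t1, t2, t3⟩ := orbit_complement h hx ht
  refine ⟨![x, w x, w (w x), y, z, t], ?_, ?_⟩
  · intro a b e
    fin_cases a <;> fin_cases b <;> simp at e <;> first
      | rfl
      | exact absurd e (by assumption)
      | exact absurd e.symm (by assumption)
  · intro b
    fin_cases b <;> simp [one6, List.formPerm_cons_cons, Equiv.swap_apply_def, cx, fy, fz, ft]

theorem arr_three {u w : Perm α} (hu : u ^ 3 = 1) (hu1 : u ≠ 1) (hw : w ^ 3 = 1) (hw1 : w ≠ 1)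
    (hn : 5 ≤ Fintype.card α) : Arr 3 u w := by
  have h3 := Nat.prime_three
  by_cases hU : Two u
  · obtain ⟨f, hf, hfu⟩ := embed_two6 hu hU
    have h6 : 6 ≤ Fintype.card α := by simpa using Fintype.card_le_of_injective f hf
    by_cases hW : Two w
    · obtain ⟨f', hf', hfw⟩ := embed_two6 hw hW
      exact arr_both h3 hf hf' hfu hfw small22
    · obtain ⟨f', hf', hfw⟩ := embed_one6 hw hw1 hW h6
      exact arr_both h3 hf hf' hfu hfw small21
  · by_cases hW : Two w
    · obtain ⟨f, hf, hfw⟩ := embed_two6 hw hW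
      have h6 : 6 ≤ Fintype.card α := by simpa using Fintype.card_le_of_injective f hf
      obtain ⟨f', hf', hfu⟩ := embed_one6 hu hu1 hU h6
      exact Arr.symm h3 (arr_both h3 hf hf' hfw hfu small21)
    · obtain ⟨f, hf, hfu⟩ := embed_one5 hu hu1 hU hn
      obtain ⟨f', hf', hfw⟩ := embed_one5 hw hw1 hW hn
      exact arr_both h3 hf hf' hfu hfw small11

theorem main (hp : p.Prime) (hp3 : 3 ≤ p) (hn : 5 ≤ Fintype.card α) {u w : Perm α} (hu : ∃ k, orderOf u = p ^ k)
    (hu1 : u ≠ 1) (hw : ∃ k, orderOf w = p ^ k) (hw1 : w ≠ 1) : Arr p u w := by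
  classical
  haveI : Nonempty α := Fintype.card_pos_iff.1 (by omega)
  obtain ⟨x, -, hx⟩ := Finset.exists_max_image Finset.univ (fun y => (orb u y).card) Finset.univ_nonempty
  obtain ⟨y, -, hy⟩ := Finset.exists_max_image Finset.univ (fun y => (orb w y).card) Finset.univ_nonempty
  obtain ⟨i, hi⟩ := card_orb hp hu x
  obtain ⟨j, hj⟩ := card_orb hp hw y
  by_cases h5 : 5 ≤ p ^ i ∨ 5 ≤ p ^ j
  · by_cases hij : p ^ j ≤ p ^ i
    · exact arr_big hp hp3 hw hw1 hi (by omega) fun z => (hy z (Finset.mem_univ _)).trans (hj ▸ hij)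
    · exact Arr.symm hp (arr_big hp hp3 hu hu1 hj (by omega) fun z => by
        have := hx z (Finset.mem_univ _); omega)
  push Not at h5
  have key : ∀ (v : Perm α) (k : ℕ), (∃ k, orderOf v = p ^ k) → v ≠ 1 → (∀ z, (orb v z).card ≤ p ^ k) → p ^ k < 5 →
      p = 3 ∧ v ^ 3 = 1 := by
    intro v k hv hv1 hle hk5
    have hcyc : ∀ z, v z ≠ z → p ≤ (orb v z).card := by
      intro z hz
      obtain ⟨l, hl⟩ := card_orb hp hv z
      have h1 : 1 < (orb v z).card :=
        Finset.one_lt_card.2 ⟨z, orb_self v z, v z, mem_orb.2 (SameCycle.refl v z).apply_right, hz.symm⟩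
      rw [hl] at h1 ⊢
      exact Nat.le_self_pow (fun h => by rw [h, pow_zero] at h1; omega) p
    obtain ⟨z, hz⟩ : ∃ z, v z ≠ z := by by_contra h; push Not at h; exact hv1 (Equiv.ext h)
    have hp3' : p = 3 := by
      have := hcyc z hz
      have := hle z
      rcases eq_or_ne p 4 with rfl | h4
      · exact absurd hp (by decide)
      · omega
    refine ⟨hp3', ?_⟩
    subst hp3'
    have horb : ∀ z, v z ≠ z → (orb v z).card = 3 := by
      intro z hz
      obtain ⟨l, hl⟩ := card_orb hp hv z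
      have := hle z
      have := hcyc z hz
      rcases l with _ | _ | l
      · omega
      · rw [hl]; rfl
      · have : 9 ≤ 3 ^ (l + 2) := by
          rw [pow_add]; have := Nat.one_le_pow l 3 (by norm_num); omega
        omega
    refine orderOf_dvd_iff_pow_eq_one.1 ?_
    rw [← lcm_cycleType v, Multiset.lcm_dvd]
    intro c hc
    rw [cycleType_def] at hc
    obtain ⟨σ, hσ, rfl⟩ := Multiset.mem_map.1 hc
    rw [Finset.mem_val, mem_cycleFactorsFinset_iff] at hσ
    obtain ⟨z, hz⟩ := hσ.1.nonempty_support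
    have hvz : v z ≠ z := by rw [← (hσ.2 z hz)]; exact mem_support.1 hz
    have e : orb v z = σ.support := Finset.ext fun y => by
      rw [mem_orb, (cycle_is_cycleOf hz (mem_cycleFactorsFinset_iff.2 hσ)).trans rfl, mem_support_cycleOf_iff' hvz]
    show σ.support.card ∣ 3
    rw [← e, horb z hvz]
  obtain ⟨rfl, hu3⟩ := key u i hu hu1 (fun z => hi ▸ hx z (Finset.mem_univ _)) h5.1
  obtain ⟨-, hw3⟩ := key w j hw hw1 (fun z => hj ▸ hy z (Finset.mem_univ _)) h5.2
  exact arr_three hu3 hu1 hw3 hw1 hn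

end CfsgLib.AltFreePair
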